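import Mathlib
import Groth.Agent.SGA1Quot.Basic

/-!
# The quotient of `Proj` by a finite group acting on the graded ring
-/

set_option linter.style.haveILetI false

universe u

open CategoryTheory AlgebraicGeometry TopologicalSpace HomogeneousLocalization

noncomputable section

namespace Groth.Agent.ProjQuot70

theorem appLE_top_of_comm {X Y X' Y' : Scheme.{u}} (r : X ⟶ Y) (a : X' ⟶ X) (b : Y' ⟶ Y) (s : X' ⟶ Y')
    (e : a ≫ r = s ≫ b) {V : Y.Opens} {U : X.Opens} (hU : U ≤ r ⁻¹ᵁ V) (ha : ⊤ ≤ a ⁻¹ᵁ U)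
    (hb : ⊤ ≤ b ⁻¹ᵁ V) :
    r.appLE V U hU ≫ a.appLE U ⊤ ha = b.appLE V ⊤ hb ≫ s.appTop := by
  have hs' : s.appTop = s.appLE ⊤ ⊤ le_rfl := by
    rw [Scheme.Hom.appTop, Scheme.Hom.app_eq_appLE]; rfl
  rw [hs', Scheme.Hom.appLE_comp_appLE, Scheme.Hom.appLE_comp_appLE]
  simp only [e]

theorem isIso_appLE_top {X Y : Scheme.{u}} (a : X ⟶ Y) [IsOpenImmersion a] {U : Y.Opens}
    (h : ⊤ ≤ a ⁻¹ᵁ U) (h' : U ≤ a.opensRange) : IsIso (a.appLE U ⊤ h) := by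
  haveI := a.isIso_app U h'
  unfold Scheme.Hom.appLE
  haveI : IsIso (homOfLE h) := homOfLE_isIso_of_eq _ (le_antisymm le_top h).symm
  infer_instance

variable {R A : Type u} [CommRing R] [CommRing A] [Algebra R A] (𝒜 : ℕ → Submodule R A) [GradedAlgebra 𝒜]
  {G : Type u} [Group G] [MulSemiringAction G A]
  (hGdeg : ∀ (σ : G) (i : ℕ) (a : A), a ∈ 𝒜 i → σ • a ∈ 𝒜 i)
  {C : Type u} [CommRing C] [Algebra R C] (𝒞 : ℕ → Submodule R C) [GradedAlgebra 𝒞]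
  (ι : C →ₐ[R] A)
  (hιdeg : ∀ (i : ℕ) (a : A), a ∈ (𝒞 i).map ι.toLinearMap ↔ (a ∈ 𝒜 i ∧ ∀ σ : G, σ • a = a))

/-- The graded endomorphism given by a group element. -/
def gAct (σ : G) : 𝒜 →+*ᵍ 𝒜 where
  __ := MulSemiringAction.toRingHom G A σ
  map_mem {i a} h := hGdeg σ i a h

include hιdeg in
theorem ι_mem {i : ℕ} {c : C} (hc : c ∈ 𝒞 i) : ι c ∈ 𝒜 i :=
  ((hιdeg i (ι c)).mp (Submodule.mem_map_of_mem hc)).1

include hιdeg in
theorem smul_ι {i : ℕ} {c : C} (hc : c ∈ 𝒞 i) (σ : G) : σ • ι c = ι c :=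
  ((hιdeg i (ι c)).mp (Submodule.mem_map_of_mem hc)).2 σ

/-- The graded inclusion of the invariants. -/
def gι : 𝒞 →+*ᵍ 𝒜 where
  __ := ι.toRingHom
  map_mem h := ι_mem 𝒜 𝒞 ι hιdeg h

theorem powers_le {f f' : A} {σ : G} (e : σ • f = f') :
    Submonoid.powers f ≤ (Submonoid.powers f').comap (gAct 𝒜 hGdeg σ) := by
  rw [Submonoid.powers_le]
  exact ⟨1, by simp only [pow_one]; exact e.symm⟩

include hGdeg hιdeg in
/-- Invariant homogeneous elements of positive degree cover `Proj`. -/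
theorem exists_invariant [Finite G] (x : Proj 𝒜) :
    ∃ (n : ℕ) (c : C), 0 < n ∧ c ∈ 𝒞 n ∧ x ∈ Proj.basicOpen 𝒜 (ι c) := by
  classical
  cases nonempty_fintype G
  obtain ⟨⟨⟨n, hn⟩, ⟨f, hf⟩⟩, hx⟩ : ∃ i : (Proj.affineOpenCover 𝒜).I₀,
      x ∈ Proj.basicOpen 𝒜 (i.2 : A) := by
    obtain ⟨i, y, hy⟩ : ∃ i y, (Proj.affineOpenCover 𝒜).f i y = x :=
      ⟨_, (Proj.affineOpenCover 𝒜).covers x⟩
    refine ⟨i, ?_⟩
    rw [← hy, ← Proj.opensRange_awayι 𝒜 (i.2 : A) i.2.2 i.1.2]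
    exact ⟨y, rfl⟩
  let s : Multiset A := Finset.univ.val.map fun σ : G => σ • f
  have hesymm : ∀ k, s.esymm k ∈ 𝒜 (k * n) ∧ ∀ σ : G, σ • s.esymm k = s.esymm k := by
    refine fun k => ⟨?_, fun σ => ?_⟩
    · refine multiset_sum_mem _ fun b hb => ?_
      obtain ⟨t, ht, rfl⟩ := Multiset.mem_map.mp hb
      obtain ⟨hts, htk⟩ := Multiset.mem_powersetCard.mp ht
      have hmem : ∀ a ∈ t, a ∈ 𝒜 n := fun a ha => by
        obtain ⟨g, -, rfl⟩ := Multiset.mem_map.mp (Multiset.mem_of_le hts ha)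
        exact hGdeg g n f hf
      rw [← htk]
      clear hts htk hb ht
      induction t using Multiset.induction with
      | empty => simpa using SetLike.one_mem_graded 𝒜
      | cons a t ih =>
        rw [Multiset.prod_cons, Multiset.card_cons, add_mul, one_mul, add_comm]
        exact SetLike.mul_mem_graded (hmem a (Multiset.mem_cons_self a t))
          (ih fun b hb => hmem b (Multiset.mem_cons_of_mem hb))
    · have hs : s.map (σ • ·) = s := by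
        simp only [s, Multiset.map_map, Function.comp_def, smul_smul]
        conv_rhs => rw [← Multiset.map_univ_val_equiv (Equiv.mulLeft σ), Multiset.map_map]
        rfl
      rw [Multiset.esymm, Multiset.smul_sum, Multiset.map_map]
      conv_rhs => rw [← hs, Multiset.powersetCard_map, Multiset.map_map]
      refine congrArg Multiset.sum (Multiset.map_congr rfl fun t _ => ?_)
      exact (map_multiset_prod (MulSemiringAction.toRingHom G A σ) t)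
  have hc : ∀ k, ∃ c ∈ 𝒞 (k * n), ι c = s.esymm k := fun k => by
    obtain ⟨c, hc, e⟩ := (hιdeg (k * n) _).mpr (hesymm k)
    exact ⟨c, hc, e⟩
  choose c hc hce using hc
  by_contra! hall
  refine hx ?_
  have hk : ∀ k, 0 < k → s.esymm k ∈ x.asHomogeneousIdeal := fun k hk => by
    have := hall (k * n) (c k) (Nat.mul_pos hk hn) (hc k)
    rw [Proj.mem_basicOpen, not_not, hce k] at this
    exact this
  have h0 : (s.map fun t => f - t).prod = 0 :=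
    Multiset.prod_eq_zero (Multiset.mem_map.mpr
      ⟨f, Multiset.mem_map.mpr ⟨1, Finset.mem_univ _, one_smul G f⟩, sub_self f⟩)
  have h := congrArg (Polynomial.eval f) (Multiset.prod_X_sub_X_eq_sum_esymm s)
  simp only [Polynomial.eval_multiset_prod, Multiset.map_map, Function.comp_def, Polynomial.eval_sub,
    Polynomial.eval_X, Polynomial.eval_C, h0, Polynomial.eval_finset_sum, Polynomial.eval_mul,
    Polynomial.eval_pow, Polynomial.eval_neg, Polynomial.eval_one] at h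
  rw [Finset.sum_range_succ'] at h
  have e0 : s.esymm 0 = 1 := by simp [Multiset.esymm]
  simp only [e0, pow_zero, one_mul, Nat.sub_zero] at h
  apply x.isPrime.mem_of_pow_mem (Multiset.card s)
  change f ^ Multiset.card s ∈ x.asHomogeneousIdeal.toIdeal
  rw [eq_neg_of_add_eq_zero_right h.symm]
  exact neg_mem (Ideal.sum_mem _ fun k _ => Ideal.mul_mem_left _ _ (Ideal.mul_mem_right _ _
    (hk (k + 1) (Nat.succ_pos k))))

variable (ρ : G →* Aut (Proj 𝒜))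
    (hρ : ∀ (σ : G) (n : ℕ) (f : A) (hn : 0 < n) (hf : f ∈ 𝒜 n)
      (θ : CommRingCat.of (HomogeneousLocalization.Away 𝒜 f) ⟶ CommRingCat.of (HomogeneousLocalization.Away 𝒜 (σ • f))),
      (algebraMap (HomogeneousLocalization.Away 𝒜 (σ • f)) (Localization.Away (σ • f))).comp θ.hom =
        (Localization.awayMap (MulSemiringAction.toRingHom G A σ) f).comp
          (algebraMap (HomogeneousLocalization.Away 𝒜 f) (Localization.Away f)) →
      Proj.awayι 𝒜 (σ • f) (hGdeg σ n f hf) hn ≫ (ρ σ).inv = Spec.map θ ≫ Proj.awayι 𝒜 f hf hn)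
    (π : Proj 𝒜 ⟶ Proj 𝒞)
    (hπ : ∀ (n : ℕ) (c : C) (hn : 0 < n) (hc : c ∈ 𝒞 n)
      (θ : CommRingCat.of (HomogeneousLocalization.Away 𝒞 c) ⟶ CommRingCat.of (HomogeneousLocalization.Away 𝒜 (ι c))),
      (algebraMap (HomogeneousLocalization.Away 𝒜 (ι c)) (Localization.Away (ι c))).comp θ.hom =
        (Localization.awayMap ι.toRingHom c).comp
          (algebraMap (HomogeneousLocalization.Away 𝒞 c) (Localization.Away c)) →
      Proj.awayι 𝒜 (ι c) ((hιdeg n (ι c)).mp (Submodule.mem_map_of_mem hc)).1 hn ≫ π =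
        Spec.map θ ≫ Proj.awayι 𝒞 c hc hn)

include hρ in
theorem awayι_inv (σ : G) (n : ℕ) (f f' : A) (hn : 0 < n) (hf : f ∈ 𝒜 n) (hf' : f' ∈ 𝒜 n)
    (e : σ • f = f') :
    Proj.awayι 𝒜 f' hf' hn ≫ (ρ σ).inv =
      Spec.map (CommRingCat.ofHom (HomogeneousLocalization.map (gAct 𝒜 hGdeg σ)
        (powers_le 𝒜 hGdeg e))) ≫ Proj.awayι 𝒜 f hf hn := by
  subst e
  refine hρ σ n f hn hf _ ?_
  ext z
  obtain ⟨k, a, ha, rfl⟩ := Away.mk_surjective 𝒜 hf z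
  simp only [CommRingCat.hom_ofHom, RingHom.comp_apply, Away.mk, HomogeneousLocalization.map_mk,
    HomogeneousLocalization.algebraMap_apply, HomogeneousLocalization.val_mk]
  change _ = (Localization.awayMap (MulSemiringAction.toRingHom G A σ) f)
    (Localization.mk a ⟨f ^ k, k, rfl⟩)
  simp only [Localization.mk_eq_mk', Localization.awayMap, IsLocalization.Away.map, IsLocalization.map_mk']
  rfl

include hρ in
theorem awayι_hom (σ : G) (n : ℕ) (f : A) (hn : 0 < n) (hf : f ∈ 𝒜 n) (e : σ⁻¹ • f = f) :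
    Proj.awayι 𝒜 f hf hn ≫ (ρ σ).hom =
      Spec.map (CommRingCat.ofHom (HomogeneousLocalization.map (gAct 𝒜 hGdeg σ⁻¹)
        (powers_le 𝒜 hGdeg e))) ≫ Proj.awayι 𝒜 f hf hn := by
  rw [← awayι_inv 𝒜 hGdeg ρ hρ σ⁻¹ n f f hn hf hf e, map_inv]
  rfl

theorem powers_le_ι (c : C) :
    Submonoid.powers c ≤ (Submonoid.powers (ι c)).comap (gι 𝒜 𝒞 ι hιdeg) := by
  rw [Submonoid.powers_le]
  exact ⟨1, pow_one _⟩

/-- The chart map. -/
abbrev θι (c : C) : Away 𝒞 c →+* Away 𝒜 (ι c) :=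
  HomogeneousLocalization.map (gι 𝒜 𝒞 ι hιdeg) (powers_le_ι 𝒜 𝒞 ι hιdeg c)

include hπ in
theorem awayι_π (n : ℕ) (c : C) (hn : 0 < n) (hc : c ∈ 𝒞 n) :
    Proj.awayι 𝒜 (ι c) (ι_mem 𝒜 𝒞 ι hιdeg hc) hn ≫ π =
      Spec.map (CommRingCat.ofHom (θι 𝒜 𝒞 ι hιdeg c)) ≫ Proj.awayι 𝒞 c hc hn := by
  refine hπ n c hn hc _ ?_
  ext z
  obtain ⟨k, a, ha, rfl⟩ := Away.mk_surjective 𝒞 hc z
  simp only [θι, CommRingCat.hom_ofHom, RingHom.comp_apply, Away.mk, HomogeneousLocalization.map_mk,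
    HomogeneousLocalization.algebraMap_apply, HomogeneousLocalization.val_mk]
  simp only [Localization.mk_eq_mk', Localization.awayMap, IsLocalization.Away.map, IsLocalization.map_mk']
  rfl

theorem θι_injective (hι : Function.Injective ι) {n : ℕ} (c : C) (hc : c ∈ 𝒞 n) :
    Function.Injective (θι 𝒜 𝒞 ι hιdeg c) := by
  rw [injective_iff_map_eq_zero]
  intro z hz
  obtain ⟨k, a, ha, rfl⟩ := Away.mk_surjective 𝒞 hc z
  apply val_injective
  have hz' := congrArg HomogeneousLocalization.val hz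
  simp only [θι, Away.mk, HomogeneousLocalization.map_mk, HomogeneousLocalization.val_mk,
    HomogeneousLocalization.val_zero, Localization.mk_eq_mk', IsLocalization.mk'_eq_zero_iff] at hz'
  simp only [Away.val_mk, HomogeneousLocalization.val_zero, Localization.mk_eq_mk',
    IsLocalization.mk'_eq_zero_iff]
  obtain ⟨⟨_, m, rfl⟩, hm⟩ := hz'
  exact ⟨⟨c ^ m, m, rfl⟩, hι (by rw [map_mul, map_pow, map_zero]; exact hm)⟩

theorem mem_range_θι [Finite G] {n : ℕ} (c : C) (hc : c ∈ 𝒞 n) (z : Away 𝒜 (ι c))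
    (hz : ∀ σ : G, HomogeneousLocalization.map (gAct 𝒜 hGdeg σ)
      (powers_le 𝒜 hGdeg (smul_ι 𝒜 𝒞 ι hιdeg hc σ)) z = z) :
    z ∈ Set.range (θι 𝒜 𝒞 ι hιdeg c) := by
  cases nonempty_fintype G
  have hcA := ι_mem 𝒜 𝒞 ι hιdeg hc
  obtain ⟨k, a, ha, rfl⟩ := Away.mk_surjective 𝒜 hcA z
  have key : ∀ σ : G, ∃ m : ℕ, ι c ^ m * (σ • a) = ι c ^ m * a := fun σ => by
    have h := congrArg HomogeneousLocalization.val (hz σ)
    simp only [Away.mk, HomogeneousLocalization.map_mk, HomogeneousLocalization.val_mk,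
      Localization.mk_eq_mk', IsLocalization.mk'_eq_iff_eq] at h
    obtain ⟨⟨_, m, rfl⟩, hm⟩ := (IsLocalization.eq_iff_exists (Submonoid.powers (ι c)) _).mp h
    refine ⟨m + k, ?_⟩
    change ι c ^ m * (ι c ^ k * (σ • a)) = ι c ^ m * (σ • (ι c ^ k) * a) at hm
    rw [smul_pow', smul_ι 𝒜 𝒞 ι hιdeg hc] at hm
    rw [pow_add, mul_assoc, mul_assoc]
    exact hm
  choose m hm using key
  let M := Finset.univ.sup m
  have hb : ι c ^ M * a ∈ 𝒜 ((M + k) • n) := by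
    rw [add_smul]
    exact SetLike.mul_mem_graded (SetLike.pow_mem_graded M hcA) ha
  obtain ⟨x, hx, hxe⟩ := (hιdeg _ _).mpr ⟨hb, fun σ => by
    have hle : m σ ≤ M := Finset.le_sup (Finset.mem_univ σ)
    rw [smul_mul', smul_pow', smul_ι 𝒜 𝒞 ι hιdeg hc, ← Nat.sub_add_cancel hle, pow_add, mul_assoc,
      hm σ, ← mul_assoc]⟩
  refine ⟨Away.mk 𝒞 hc (M + k) x hx, val_injective _ ?_⟩
  simp only [θι, Away.mk, HomogeneousLocalization.map_mk, HomogeneousLocalization.val_mk,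
    Localization.mk_eq_mk', IsLocalization.mk'_eq_iff_eq]
  congr 1
  change ι c ^ k * ι x = ι (c ^ (M + k)) * a
  rw [map_pow, show ι x = _ from hxe, ← mul_assoc, ← pow_add, add_comm k M]

include hρ hπ in
theorem isQuot [Finite G] (hι : Function.Injective ι) : SGA1.IsQuot ρ π := by
  have hpre : ∀ (n : ℕ) (c : C) (hn : 0 < n) (hc : c ∈ 𝒞 n),
      π ⁻¹ᵁ Proj.basicOpen 𝒞 c = Proj.basicOpen 𝒜 (ι c) := by
    intro n c hn hc
    ext x
    obtain ⟨n', c', hn', hc', hx⟩ := exists_invariant 𝒜 hGdeg 𝒞 ι hιdeg x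
    rw [← Proj.opensRange_awayι 𝒜 (ι c') (ι_mem 𝒜 𝒞 ι hιdeg hc') hn'] at hx
    obtain ⟨t, rfl⟩ := hx
    change π _ ∈ Proj.basicOpen 𝒞 c ↔ _
    rw [← Scheme.Hom.comp_apply, awayι_π 𝒜 𝒞 ι hιdeg π hπ n' c' hn' hc', Scheme.Hom.comp_apply]
    change _ ∈ Proj.awayι 𝒞 c' hc' hn' ⁻¹ᵁ Proj.basicOpen 𝒞 c ↔
      t ∈ Proj.awayι 𝒜 (ι c') _ hn' ⁻¹ᵁ Proj.basicOpen 𝒜 (ι c)
    rw [Proj.awayι_preimage_basicOpen 𝒞 hc' hn' hc hn,
      Proj.awayι_preimage_basicOpen 𝒜 (ι_mem 𝒜 𝒞 ι hιdeg hc') hn' (ι_mem 𝒜 𝒞 ι hιdeg hc) hn]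
    have e : θι 𝒜 𝒞 ι hιdeg c' (Away.isLocalizationElem hc' hc) =
        Away.isLocalizationElem (ι_mem 𝒜 𝒞 ι hιdeg hc') (ι_mem 𝒜 𝒞 ι hιdeg hc) := by
      apply val_injective
      simp only [θι, Away.isLocalizationElem, Away.mk, gι, HomogeneousLocalization.map_mk,
        HomogeneousLocalization.val_mk, GradedRingHom.coe_mk]
      congr 1
      · exact map_pow ι c n'
      · exact Subtype.ext (map_pow ι c' _)
    rw [← e]
    rfl
  have haff : IsAffineHom π := by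
    rw [HasAffineProperty.iff_of_iSup_eq_top (P := @IsAffineHom)
      fun i : (Proj.affineOpenCover 𝒞).I₀ => (⟨Proj.basicOpen 𝒞 (i.2 : C),
        Proj.isAffineOpen_basicOpen 𝒞 _ i.2.2 i.1.2⟩ : (Proj 𝒞).affineOpens)]
    · intro i
      change IsAffine (π ⁻¹ᵁ Proj.basicOpen 𝒞 (i.2 : C)).toScheme
      rw [hpre i.1 _ i.1.2 i.2.2]
      exact Proj.isAffineOpen_basicOpen 𝒜 _ (ι_mem 𝒜 𝒞 ι hιdeg i.2.2) i.1.2
    · refine top_le_iff.mp fun x _ => Opens.mem_iSup.mpr ?_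
      obtain ⟨i, y, hy⟩ : ∃ i y, (Proj.affineOpenCover 𝒞).f i y = x :=
        ⟨_, (Proj.affineOpenCover 𝒞).covers x⟩
      refine ⟨i, ?_⟩
      change x ∈ Proj.basicOpen 𝒞 (i.2 : C)
      rw [← hy, ← Proj.opensRange_awayι 𝒞 (i.2 : C) i.2.2 i.1.2]
      exact ⟨y, rfl⟩
  have hinv : ∀ σ : G, (ρ σ).hom ≫ π = π := fun σ => by
    refine Scheme.hom_ext_of_forall _ _ fun x => ?_
    obtain ⟨n, c, hn, hc, hx⟩ := exists_invariant 𝒜 hGdeg 𝒞 ι hιdeg x
    let a := Proj.awayι 𝒜 (ι c) (ι_mem 𝒜 𝒞 ι hιdeg hc) hn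
    refine ⟨a.opensRange, by rw [Proj.opensRange_awayι]; exact hx, ?_⟩
    rw [← cancel_epi a.isoOpensRange.hom, Scheme.Hom.isoOpensRange_hom_ι_assoc,
      Scheme.Hom.isoOpensRange_hom_ι_assoc,
      reassoc_of% awayι_hom 𝒜 hGdeg ρ hρ σ n (ι c) hn (ι_mem 𝒜 𝒞 ι hιdeg hc)
        (smul_ι 𝒜 𝒞 ι hιdeg hc σ⁻¹),
      awayι_π 𝒜 𝒞 ι hιdeg π hπ n c hn hc, ← Spec.map_comp_assoc]
    congr 2
    ext z
    obtain ⟨k, b, hb, rfl⟩ := Away.mk_surjective 𝒞 hc z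
    simp only [θι, CommRingCat.hom_comp, CommRingCat.hom_ofHom, RingHom.comp_apply, Away.mk,
      HomogeneousLocalization.map_mk, HomogeneousLocalization.val_mk]
    congr 1
    · exact smul_ι 𝒜 𝒞 ι hιdeg hb _
    · exact Subtype.ext (smul_ι 𝒜 𝒞 ι hιdeg (SetLike.pow_mem_graded k hc) _)
  refine SGA1Quot.isQuot_of_affine_cover (hinv := hinv) fun y => ?_
  obtain ⟨⟨⟨n, hn⟩, ⟨c, hc⟩⟩, t, rfl⟩ : ∃ i t, (Proj.affineOpenCover 𝒞).f i t = y :=
    ⟨_, (Proj.affineOpenCover 𝒞).covers y⟩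
  refine ⟨Proj.basicOpen 𝒞 c, Proj.isAffineOpen_basicOpen 𝒞 c hc hn, ?_, ?_⟩
  · rw [← Proj.opensRange_awayι 𝒞 c hc hn]; exact ⟨t, rfl⟩
  let a := Proj.awayι 𝒜 (ι c) (ι_mem 𝒜 𝒞 ι hιdeg hc) hn
  let b := Proj.awayι 𝒞 c hc hn
  have ha : a ⁻¹ᵁ (π ⁻¹ᵁ Proj.basicOpen 𝒞 c) = ⊤ := by
    rw [hpre n c hn hc, ← Proj.opensRange_awayι 𝒜 (ι c) (ι_mem 𝒜 𝒞 ι hιdeg hc) hn]
    exact Scheme.Hom.preimage_opensRange a
  have hb : b ⁻¹ᵁ Proj.basicOpen 𝒞 c = ⊤ := by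
    rw [← Proj.opensRange_awayι 𝒞 c hc hn]
    exact Scheme.Hom.preimage_opensRange b
  let E := a.appLE (π ⁻¹ᵁ Proj.basicOpen 𝒞 c) ⊤ ha.ge ≫ (Scheme.ΓSpecIso _).hom
  let E' := b.appLE (Proj.basicOpen 𝒞 c) ⊤ hb.ge ≫ (Scheme.ΓSpecIso _).hom
  haveI : IsIso E := by
    haveI : IsIso (a.appLE (π ⁻¹ᵁ Proj.basicOpen 𝒞 c) ⊤ ha.ge) := by
      exact isIso_appLE_top a ha.ge (by rw [hpre n c hn hc, Proj.opensRange_awayι])
    infer_instance
  haveI : IsIso E' := by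
    haveI : IsIso (b.appLE (Proj.basicOpen 𝒞 c) ⊤ hb.ge) := by
      exact isIso_appLE_top b hb.ge (by rw [Proj.opensRange_awayι])
    infer_instance
  have hsq : π.app (Proj.basicOpen 𝒞 c) ≫ E = E' ≫ CommRingCat.ofHom (θι 𝒜 𝒞 ι hιdeg c) := by
    rw [Scheme.Hom.app_eq_appLE, ← Category.assoc,
      appLE_top_of_comm π a b _ (awayι_π 𝒜 𝒞 ι hιdeg π hπ n c hn hc) le_rfl ha.ge hb.ge,
      Category.assoc, Scheme.ΓSpecIso_naturality, ← Category.assoc]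
  refine ⟨?_, fun s hs => ?_⟩
  · intro s t hst
    apply (ConcreteCategory.bijective_of_isIso E').1
    apply θι_injective 𝒜 𝒞 ι hιdeg hι c hc
    exact ((ConcreteCategory.congr_hom hsq s).symm.trans (congrArg (fun x => E.hom x) hst)).trans
      (ConcreteCategory.congr_hom hsq t)
  · obtain ⟨z, hz⟩ := mem_range_θι 𝒜 hGdeg 𝒞 ι hιdeg c hc (E.hom s) fun σ => by
      have hnat : (ρ σ⁻¹).hom.appLE (π ⁻¹ᵁ Proj.basicOpen 𝒞 c) (π ⁻¹ᵁ Proj.basicOpen 𝒞 c)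
          (SGA1.preimage_le_of_inv ρ π hinv σ⁻¹ _) ≫ E =
          E ≫ CommRingCat.ofHom (HomogeneousLocalization.map (gAct 𝒜 hGdeg σ)
            (powers_le 𝒜 hGdeg (smul_ι 𝒜 𝒞 ι hιdeg hc σ))) := by
        rw [← Category.assoc, appLE_top_of_comm (ρ σ⁻¹).hom a a _
          (awayι_hom 𝒜 hGdeg ρ hρ σ⁻¹ n (ι c) hn (ι_mem 𝒜 𝒞 ι hιdeg hc)
            (smul_ι 𝒜 𝒞 ι hιdeg hc σ⁻¹⁻¹)) _ ha.ge ha.ge,
          Category.assoc, Scheme.ΓSpecIso_naturality, ← Category.assoc]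
        simp only [inv_inv]
        rfl
      have := congrArg (fun x => E.hom x) (hs σ⁻¹)
      exact ((ConcreteCategory.congr_hom hnat s).symm.trans this)
    obtain ⟨r, rfl⟩ := (ConcreteCategory.bijective_of_isIso E').2 z
    refine ⟨r, (ConcreteCategory.bijective_of_isIso E).1 ?_⟩
    exact (ConcreteCategory.congr_hom hsq r).trans hz

end Groth.Agent.ProjQuot70
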